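import Mathlib
import Cfsg.Agent.Lib.Helper67.LSF.Defs

/-!
# Project LSF (S5286): package [FWD]

Conjugation by the stable letter `t_i` is `φ_i` on `lam (P_i)`.
-/

set_option autoImplicit false

namespace Cfsg.Agent.Lib.Helper59.LSF

open Cfsg Cfsg.Agent.Lib.Helper67.LSF

universe u

theorem pkgFwd : PkgFwd.{u} := by
  intro Ω _ S F i u
  have hr : i.σ * lam S ⟨u, (F.le_of_mem i.mem).1 u.2⟩
      = lam S ⟨i.φ u, (F.le_of_mem i.mem).2 u⟩ * i.σ := by
    apply Equiv.ext
    intro x
    exact i.hσ u x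
  have hmem : lam S ⟨u, (F.le_of_mem i.mem).1 u.2⟩ ∈ Lam i :=
    ⟨⟨u, (F.le_of_mem i.mem).1 u.2⟩, u.2, rfl⟩
  have hx : xperm F (lam S ⟨i.φ u, (F.le_of_mem i.mem).2 u⟩ * i.σ) (x0 i) = xperm F i.σ (x0 i) := by
    rw [← hr]
    unfold x0
    rw [xperm_mk, xperm_mk]
    congr 1
    rw [QuotientGroup.eq]
    simpa [mul_assoc] using hmem
  have key : tGen i * aGen F ⟨u, (F.le_of_mem i.mem).1 u.2⟩
      = aGen F ⟨i.φ u, (F.le_of_mem i.mem).2 u⟩ * tGen i := by
    apply SemidirectProduct.ext
    · simp only [tGen, aGen, SemidirectProduct.mul_left, SemidirectProduct.mul_right,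
        SemidirectProduct.left_inl, SemidirectProduct.right_inl, SemidirectProduct.left_inr,
        SemidirectProduct.right_inr, map_one, one_mul, mul_one]
      unfold autF
      rw [autX_of, autX_of]
      congr 1
      rw [← Equiv.Perm.mul_apply, ← map_mul, hx]
    · simp only [tGen, aGen, SemidirectProduct.mul_right, SemidirectProduct.right_inl,
        SemidirectProduct.right_inr, mul_one]
      exact hr
  rw [mul_inv_eq_iff_eq_mul]
  exact key

end Cfsg.Agent.Lib.Helper59.LSF
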